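import Groth.Agent.Ega1.ADualOpen

/-!
# Open base change for universal pairs, with the universal morphism

* `IsUniv.restrict_push`, `IsUniv.restrict`: as `ADualRestrict.Univ.restrict_push`, `ADualOpen.Univ.restrict`, but for
  an arbitrary given open base change isomorphism `β : Rf_* ⋙ j^* ≅ j'^* ⋙ Rf'_*` and with an explicit universal
  morphism: the restriction of the given one.
* `IsUniv.of_comp`: cancellation.
-/

set_option autoImplicit false

universe u

open CategoryTheory CategoryTheory.Limits AlgebraicGeometry Pretriangulated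

attribute [local instance] HasDerivedCategory.standard

namespace Groth.Agent.Dual.H339.RestrictUniv

open Groth.Agent.Dcoh.DerSch Groth.Agent.Ega1.ADualUniv Groth.Agent.LoccohB
open Groth.Agent.Ega1.ADualRestrict Groth.Agent.Ega1.ADualOpen
open Groth.Agent.PerfA.Restrict (restrictD)
open Groth.Agent.PerfB.OpenAdj (openAdj)

variable {X Y U V : Scheme.{u}}

section Square

variable {f : X ⟶ Y} {f' : U ⟶ V} {j' : U ⟶ X} {j : V ⟶ Y} [IsOpenImmersion j'] [IsOpenImmersion j]
  [QuasiCompact j'] [DCoh.HasRpush f] [DCoh.HasRpush f'] [DCoh.HasRpush j]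

/-- If `τ : Rf_* L ⟶ Rj_* M` is universal then so is its transpose `Rf'_* j'^* L ≅ j^* Rf_* L ⟶ M`. -/
theorem IsUniv.restrict_push (β : DCoh.Rpush f ⋙ restrictD j ≅ restrictD j' ⋙ DCoh.Rpush f')
    {M : DCoh.D V} {L : DCoh.D X} {τ : (DCoh.Rpush f).obj L ⟶ (DCoh.Rpush j).obj M}
    (hτ : IsUniv f ((DCoh.Rpush j).obj M) L τ) :
    IsUniv f' M ((restrictD j').obj L) (β.inv.app L ≫ ((openAdj j).homEquiv _ _).symm τ) := by
  have : DCoh.HasRpush j' := hasRpush _
  -- `L` is `j'`-local
  have hu : IsIso ((openAdj j').unit.app L) := by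
    refine isIso_unit_of_orthogonal j' L hτ.qcoh (fun N hN hN0 φ => ?_)
    have h1 : IsZero ((restrictD j).obj ((DCoh.Rpush f).obj N)) := by
      refine IsZero.of_iso ?_ (β.app N)
      have : (DCoh.Rpush f').PreservesZeroMorphisms := by
        obtain ⟨_, _, -⟩ := RpushTri.exists_isTriangulated_Rpush f'
        infer_instance
      exact (DCoh.Rpush f').map_isZero hN0
    apply hτ.hom_ext hN
    apply ((openAdj j).homEquiv _ _).symm.injective
    exact h1.eq_of_src _ _
  -- the universal morphism
  let flat : ∀ N : DCoh.D X, ((DCoh.Rpush f).obj N ⟶ (DCoh.Rpush j).obj M) →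
      ((DCoh.Rpush f').obj ((restrictD j').obj N) ⟶ M) := fun N g =>
    β.inv.app N ≫ ((openAdj j).homEquiv _ _).symm g
  have hflat : ∀ N, Function.Bijective (flat N) := fun N =>
    ((β.app N).homFromEquiv (Z := M)).bijective.comp ((openAdj j).homEquiv _ _).symm.bijective
  change IsUniv f' M ((restrictD j').obj L) (flat L τ)
  refine ⟨PerfA.QCohD.isQCohD_restrictD j' hτ.qcoh, ?_⟩
  -- naturality
  have nat : ∀ (N : DCoh.D X) (u : N ⟶ L),
      (DCoh.Rpush f').map ((restrictD j').map u) ≫ flat L τ =
        flat N ((DCoh.Rpush f).map u ≫ τ) := by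
    intro N u
    dsimp only [flat]
    rw [Adjunction.homEquiv_naturality_left_symm]
    have := β.inv.naturality u
    dsimp only [Functor.comp_map] at this
    rw [reassoc_of% this]
  -- bijectivity for objects of the form `j'^* N`
  have key : ∀ N : DCoh.D X, DCoh.IsQCohD N →
      Function.Bijective (fun g : (restrictD j').obj N ⟶ (restrictD j').obj L =>
        (DCoh.Rpush f').map g ≫ flat L τ) := by
    intro N hN
    have h1 : Function.Bijective (fun u : N ⟶ L => (restrictD j').map u) := by
      have h2 : Function.Bijective (fun u : N ⟶ L => u ≫ (openAdj j').unit.app L) :=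
        ((asIso ((openAdj j').unit.app L)).homToEquiv (Z := N)).bijective
      have h3 := ((openAdj j').homEquiv N ((restrictD j').obj L)).symm.bijective
      convert h3.comp h2 using 1
      funext u
      simp only [Function.comp_apply]
      rw [Adjunction.homEquiv_naturality_left_symm]
      simp
    have h4 := (hflat N).comp (hτ.bij N hN)
    have h5 : (fun g : (restrictD j').obj N ⟶ (restrictD j').obj L =>
        (DCoh.Rpush f').map g ≫ flat L τ) ∘ (fun u : N ⟶ L => (restrictD j').map u) =
        (flat N) ∘ (fun g : N ⟶ L => (DCoh.Rpush f).map g ≫ τ) := by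
      funext u
      exact nat N u
    rw [← h5] at h4
    exact (Function.Bijective.of_comp_iff _ h1).1 h4
  intro N hN
  -- `N ≅ j'^* Rj'_* N`
  let N' := (DCoh.Rpush j').obj N
  have hN' : DCoh.IsQCohD N' := S0998.result j' _ hN
  let e : (restrictD j').obj N' ≅ N := asIso ((openAdj j').counit.app N)
  have h1 := key N' hN'
  have h2 : Function.Bijective (fun g : N ⟶ (restrictD j').obj L => e.hom ≫ g) :=
    (e.symm.homFromEquiv (Z := (restrictD j').obj L)).bijective
  have h3 : Function.Bijective (fun g : (DCoh.Rpush f').obj ((restrictD j').obj N') ⟶ M =>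
      (DCoh.Rpush f').map e.inv ≫ g) :=
    (((DCoh.Rpush f').mapIso e).homFromEquiv (Z := M)).bijective
  convert h3.comp (h1.comp h2) using 1
  funext g
  simp

end Square

/-- Transport of a universal morphism along an isomorphism of `L`. -/
lemma IsUniv.precomp {f : X ⟶ Y} [DCoh.HasRpush f] {K : DCoh.D Y} {L L' : DCoh.D X}
    {τ : (DCoh.Rpush f).obj L ⟶ K} (h : IsUniv f K L τ) (e : L' ≅ L) :
    IsUniv f K L' ((DCoh.Rpush f).map e.hom ≫ τ) := by
  have h1 := h.of_iso e.symm (Iso.refl K) (PerfA.QCohD.isQCohD_of_iso e.symm h.qcoh)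
  simpa using h1

lemma IsUniv.postcomp {f : X ⟶ Y} [DCoh.HasRpush f] {K K' : DCoh.D Y} {L : DCoh.D X}
    {τ : (DCoh.Rpush f).obj L ⟶ K} (h : IsUniv f K L τ) (e : K ≅ K') :
    IsUniv f K' L (τ ≫ e.hom) := by
  have h1 := h.of_iso (Iso.refl L) e h.qcoh
  simpa using h1

/-- Open base change for universal morphisms (`f` proper, `K` bounded below): the restriction of a universal
morphism is universal, for every choice of the open base change isomorphism. -/
theorem IsUniv.restrict [IsNoetherian Y] (f : X ⟶ Y) [IsProper f] [DCoh.HasRpush f] {f' : U ⟶ V}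
    [DCoh.HasRpush f'] {j' : U ⟶ X} {j : V ⟶ Y} [IsOpenImmersion j'] [IsOpenImmersion j]
    (hp : IsPullback j' f' f j)
    (β : DCoh.Rpush f ⋙ restrictD j ≅ restrictD j' ⋙ DCoh.Rpush f')
    {K : DCoh.D Y} (hK : DCoh.IsQCohD K) (c : ℤ) (hKc : K.IsGE c)
    {L : DCoh.D X} {τ : (DCoh.Rpush f).obj L ⟶ K} (h : IsUniv f K L τ) :
    IsUniv f' ((restrictD j).obj K) ((restrictD j').obj L)
      (β.inv.app L ≫ (restrictD j).map τ) := by
  have : IsNoetherian X := by
    have : CompactSpace X := QuasiCompact.compactSpace_of_compactSpace f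
    have : IsLocallyNoetherian X := LocallyOfFiniteType.isLocallyNoetherian f
    constructor
  have : DCoh.HasRpush j := hasRpush j
  have hf : ∀ N : DCoh.D X, DCoh.IsQCohD N → DCoh.IsQCohD ((DCoh.Rpush f).obj N) :=
    fun N hN => S0998.result f N hN
  have := S1766.result X Y f hf
  set F : DCoh.DQCoh X ⥤ DCoh.DQCoh Y := ObjectProperty.lift DCoh.IsQCohD
    (ObjectProperty.ι DCoh.IsQCohD ⋙ DCoh.Rpush f) (fun K => hf K.obj K.property) with hF
  let a := F.rightAdjoint
  let adj : F ⊣ a := Adjunction.ofIsLeftAdjoint F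
  let K₀ : DCoh.DQCoh Y := ⟨K, hK⟩
  have hK' : DCoh.IsQCohD ((DCoh.Rpush j).obj ((restrictD j).obj K)) :=
    S0998.result j _ (PerfA.QCohD.isQCohD_restrictD j hK)
  let K₁ : DCoh.DQCoh Y := ⟨_, hK'⟩
  let φ : K₀ ⟶ K₁ := ObjectProperty.homMk ((openAdj j).unit.app K)
  have hi : IsIso ((restrictD j').map ((a.map φ).hom)) := by
    obtain ⟨_, _, -⟩ := RpushTri.exists_isTriangulated_Rpush f
    refine isIso_map_rightAdjoint_aux adj ((DCoh.IsQCohD (X := X)).ι ⋙ restrictD j') φ ?_
    intro Q ψ δ hT
    have hT' : Triangle.mk ψ.hom ((openAdj j).unit.app K)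
        (δ.hom ≫ ((DCoh.IsQCohD (X := Y)).ι.commShiftIso (1 : ℤ)).hom.app Q) ∈
        distTriang (DCoh.D Y) :=
      (DCoh.IsQCohD (X := Y)).ι.map_distinguished _ hT
    have hQ : Q.obj.IsGE c := isGE_obj₁ hT' c hKc
      (by
        have : ((restrictD j).obj K).IsGE c := PerfA.ExactD.isGE_map _ _ _
        exact PerfC.RpushTrunc.isGE_Rpush j _ c)
    have hQV : IsZero ((restrictD j).obj Q.obj) :=
      (Triangle.isZero₁_iff_isIso₂ _ ((restrictD j).map_distinguished _ hT')).2
        (PerfB.OpenAdj.isIso_restrictD_map_unit j K)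
    have hV : Set.range j = Set.range j.opensRange.ι := by
      rw [Scheme.Opens.range_ι]; rfl
    have h1 := S1768.result X Y f hf a adj j.opensRange (by
        have := TopologicalSpace.NoetherianSpace.isCompact ((j.opensRange : Set Y))
        exact this) Q c
      (fun i hi => DerivedCategory.isZero_of_isGE Q.obj c i hi)
      (fun i => isZero_restrict_of_range hV.ge ((isZero_restrictD_iff _ _).1 hQV i))
    exact (isZero_restrictD_iff _ _).2 fun i => isZero_restrict_of_range (by
      rintro _ ⟨y, rfl⟩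
      rw [Scheme.Opens.range_ι]
      exact ⟨f' y, by rw [← Scheme.Hom.comp_apply, ← hp.w]; rfl⟩) (h1 i)
  have h0 := isUniv_of_adj (a := a) adj K₀
  have h1 := isUniv_of_adj (a := a) adj K₁
  obtain ⟨e, he, -⟩ := h.exists_iso h0
  -- the comparison morphism
  let v : L ⟶ (a.obj K₁).obj := e.hom ≫ (a.map φ).hom
  have hv : (DCoh.Rpush f).map v ≫ (adj.counit.app K₁).hom = τ ≫ (openAdj j).unit.app K := by
    have h2 := congrArg (fun t => t.hom) (adj.counit.naturality φ)
    have h3 : (DCoh.Rpush f).map (a.map φ).hom ≫ (adj.counit.app K₁).hom =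
        (adj.counit.app K₀).hom ≫ (openAdj j).unit.app K := h2
    simp only [v]
    rw [Functor.map_comp, Category.assoc, h3, reassoc_of% he]
  have hvi : IsIso ((restrictD j').map v) := by
    have : (restrictD j').map v = (restrictD j').map e.hom ≫ (restrictD j').map (a.map φ).hom :=
      Functor.map_comp _ _ _
    rw [this]
    infer_instance
  have h4 := IsUniv.precomp (IsUniv.restrict_push β h1) (asIso ((restrictD j').map v))
  convert h4 using 1
  have h5 : ((openAdj j).homEquiv _ _).symm (τ ≫ (openAdj j).unit.app K) = (restrictD j).map τ := by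
    rw [Adjunction.homEquiv_naturality_left_symm, Adjunction.homEquiv_counit,
      Adjunction.left_triangle_components]
    exact Category.comp_id _
  rw [← h5, ← hv, Adjunction.homEquiv_naturality_left_symm, asIso_hom]
  exact (β.inv.naturality_assoc v _).symm

end Groth.Agent.Dual.H339.RestrictUniv
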